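import Mathlib
import Cfsg.Agent.FastGrp
import Cfsg.Agent.Prune
set_option linter.all false
prune_inst 0x7f00000000000000000000000000000000000000000000000000000000000000000000000000000000000000000000000000000000000000000000000000000000000000000000000000000000000000003fffffffffffffffffffffffffffbeffbdffffffff
open scoped Cfsg.Agent.FastGrp

/-!
# S2499 (normal 2-coverings of simple groups): definitions and elementary tools

* `Av x H` : no conjugate of `x` lies in `H`;
* `NoTwo G` : `G` is not the union of the conjugates of two proper subgroups;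
* `Inc x y` : no proper subgroup meets the classes of both `x` and `y`;
* `noTwo_of_three`, `noTwo_of_two` : the two criteria (three pairwise incompatible classes; two incompatible
  classes `A`, `B` all of whose maximal overgroups are known, and an element outside for each pair).
-/

set_option autoImplicit false

namespace Cfsg.Agent.H278.Cov

universe u v

section

variable {G : Type u} [Group G]

/-- no conjugate of `x` lies in `H` -/
def Av (x : G) (H : Subgroup G) : Prop := ∀ g : G, g * x * g⁻¹ ∉ H

/-- `G` is not the union of the conjugates of two proper subgroups -/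
def NoTwo (G : Type u) [Group G] : Prop :=
  ∀ H K : Subgroup G, H ≠ ⊤ → K ≠ ⊤ → ∃ x : G, Av x H ∧ Av x K

/-- no proper subgroup meets the classes of both `x` and `y` -/
def Inc (x y : G) : Prop := ∀ H : Subgroup G, H ≠ ⊤ → Av x H ∨ Av y H

theorem Av.mono {x : G} {H K : Subgroup G} (h : Av x K) (hHK : H ≤ K) : Av x H := fun g hg => h g (hHK hg)

theorem Av.conj {x : G} {H : Subgroup G} (h : Av x H) (a : G) : Av (a * x * a⁻¹) H := by
  intro g hg
  apply h (g * a)
  have : g * a * x * (g * a)⁻¹ = g * (a * x * a⁻¹) * g⁻¹ := by group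
  rwa [this]

/-- `x` avoids every conjugate of `H` -/
theorem Av.map_conj {x : G} {H : Subgroup G} (h : Av x H) (a : G) :
    Av x (H.map (MulAut.conj a).toMonoidHom) := by
  rintro g ⟨y, hy, hyx⟩
  apply h (a⁻¹ * g)
  have h1 : a * y * a⁻¹ = g * x * g⁻¹ := hyx
  have h2 : a⁻¹ * g * x * (a⁻¹ * g)⁻¹ = a⁻¹ * (g * x * g⁻¹) * a := by group
  rw [h2, ← h1]
  have h3 : a⁻¹ * (a * y * a⁻¹) * a = y := by group
  rwa [h3]

/-- if a power of `x` avoids `H` then `x` avoids `H` -/
theorem Av.of_pow {x : G} {H : Subgroup G} {n : ℕ} (h : Av (x ^ n) H) : Av x H := by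
  intro g hg
  apply h g
  have : g * x ^ n * g⁻¹ = (g * x * g⁻¹) ^ n := by rw [conj_pow]
  rw [this]
  exact H.pow_mem hg n

theorem Av.of_zpow {x : G} {H : Subgroup G} {n : ℤ} (h : Av (x ^ n) H) : Av x H := by
  intro g hg
  apply h g
  have : g * x ^ n * g⁻¹ = (g * x * g⁻¹) ^ n := by rw [conj_zpow]
  rw [this]
  exact H.zpow_mem hg n

/-- an element whose order does not divide the order of `H` (or no element of `H` has this order) avoids `H` -/
theorem av_of_order {x : G} {H : Subgroup G} (h : ∀ y ∈ H, orderOf y ≠ orderOf x) : Av x H := by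
  intro g hg
  apply h _ hg
  have : g * x * g⁻¹ = (MulAut.conj g).toMonoidHom x := rfl
  rw [this]
  exact orderOf_injective _ (MulAut.conj g).injective x

theorem av_of_card {x : G} {H : Subgroup G} (h : ¬ orderOf x ∣ Nat.card H) : Av x H := by
  apply av_of_order
  intro y hy he
  apply h
  rw [← he, ← Subgroup.orderOf_mk y hy]
  exact orderOf_dvd_natCard _

theorem not_av {x : G} {H : Subgroup G} (h : ¬ Av x H) : ∃ g : G, g * x * g⁻¹ ∈ H := by
  unfold Av at h
  push_neg at h
  exact h

theorem Inc.symm {x y : G} (h : Inc x y) : Inc y x := fun H hH => (h H hH).symm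

/-- the criterion with three classes -/
theorem noTwo_of_three {x y z : G} (hxy : Inc x y) (hyz : Inc y z) (hxz : Inc x z) : NoTwo G := by
  intro H K hH hK
  rcases hxy H hH with h1 | h1 <;> rcases hyz H hH with h2 | h2 <;> rcases hxz H hH with h3 | h3 <;>
    rcases hxy K hK with k1 | k1 <;> rcases hyz K hK with k2 | k2 <;> rcases hxz K hK with k3 | k3 <;>
    first
      | exact ⟨x, by assumption, by assumption⟩
      | exact ⟨y, by assumption, by assumption⟩
      | exact ⟨z, by assumption, by assumption⟩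

end

section Finite

variable {G : Type u} [Group G] [Finite G]

/-- it suffices to consider maximal subgroups -/
theorem noTwo_of_coatom (h : ∀ H K : Subgroup G, IsCoatom H → IsCoatom K → ∃ x : G, Av x H ∧ Av x K) : NoTwo G := by
  intro H K hH hK
  obtain ⟨H', h1, h2⟩ := (eq_top_or_exists_le_coatom H).resolve_left hH
  obtain ⟨K', k1, k2⟩ := (eq_top_or_exists_le_coatom K).resolve_left hK
  obtain ⟨x, hx, hy⟩ := h H' K' h1 k1
  exact ⟨x, hx.mono h2, hy.mono k2⟩

theorem inc_of_coatom {x y : G} (h : ∀ H : Subgroup G, IsCoatom H → Av x H ∨ Av y H) : Inc x y := by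
  intro H hH
  obtain ⟨H', h1, h2⟩ := (eq_top_or_exists_le_coatom H).resolve_left hH
  exact (h H' h1).imp (fun h => h.mono h2) fun h => h.mono h2

/-- the criterion with two incompatible classes `a`, `b`: for every pair of maximal subgroups `H` over a conjugate
of `a`, `K` over a conjugate of `b` there is an element outside (all conjugates of) both -/
theorem noTwo_of_two {a b : G} (hab : ∀ H : Subgroup G, IsCoatom H → Av a H ∨ Av b H)
    (h : ∀ H K : Subgroup G, IsCoatom H → IsCoatom K → a ∈ H → b ∈ K → ∃ x : G, Av x H ∧ Av x K) : NoTwo G := by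
  have key : ∀ H K : Subgroup G, IsCoatom H → IsCoatom K → ¬ Av a H → ¬ Av b K → ∃ x : G, Av x H ∧ Av x K := by
    intro H K hH hK h1 h2
    obtain ⟨g, hg⟩ := not_av h1
    obtain ⟨k, hk⟩ := not_av h2
    have hco : ∀ (c : G) (L : Subgroup G), IsCoatom L → IsCoatom (L.map (MulAut.conj c).toMonoidHom) := by
      intro c L hL
      refine ⟨fun ht => hL.1 ?_, fun M hM => ?_⟩
      · rw [eq_top_iff]
        intro y _
        have : c * y * c⁻¹ ∈ L.map (MulAut.conj c).toMonoidHom := by rw [ht]; trivial
        obtain ⟨z, hz, hzy⟩ := this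
        have h3 : c * z * c⁻¹ = c * y * c⁻¹ := hzy
        have h4 : z = y := by simpa using h3
        rwa [← h4]
      · have h5 : L < M.map (MulAut.conj c⁻¹).toMonoidHom := by
          rw [SetLike.lt_iff_le_and_exists] at hM ⊢
          obtain ⟨hle, w, hw1, hw2⟩ := hM
          refine ⟨fun y hy => ?_, c⁻¹ * w * c, ?_, ?_⟩
          · refine ⟨c * y * c⁻¹, hle ⟨y, hy, rfl⟩, ?_⟩
            change c⁻¹ * (c * y * c⁻¹) * c⁻¹⁻¹ = y
            group
          · refine ⟨w, hw1, ?_⟩
            change c⁻¹ * w * c⁻¹⁻¹ = c⁻¹ * w * c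
            group
          · intro hcon
            apply hw2
            refine ⟨c⁻¹ * w * c, hcon, ?_⟩
            change c * (c⁻¹ * w * c) * c⁻¹ = w
            group
        have h6 := hL.2 _ h5
        rw [eq_top_iff]
        intro y _
        have h7 : c⁻¹ * y * c ∈ M.map (MulAut.conj c⁻¹).toMonoidHom := by rw [h6]; trivial
        obtain ⟨z, hz, hzy⟩ := h7
        have h8 : c⁻¹ * z * c⁻¹⁻¹ = c⁻¹ * y * c := hzy
        have h9 : z = y := by simpa using h8
        rwa [← h9]
    have hmem : ∀ (c x : G) (L : Subgroup G), c * x * c⁻¹ ∈ L → x ∈ L.map (MulAut.conj c⁻¹).toMonoidHom := by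
      intro c x L hx
      refine ⟨c * x * c⁻¹, hx, ?_⟩
      change c⁻¹ * (c * x * c⁻¹) * c⁻¹⁻¹ = x
      group
    obtain ⟨x, hx1, hx2⟩ := h _ _ (hco g⁻¹ H hH) (hco k⁻¹ K hK) (hmem g a H hg) (hmem k b K hk)
    have hback : ∀ (c : G) (L : Subgroup G), Av x (L.map (MulAut.conj c⁻¹).toMonoidHom) → Av x L := by
      intro c L hL y hy
      apply hL (c⁻¹ * y)
      refine ⟨y * x * y⁻¹, hy, ?_⟩
      change c⁻¹ * (y * x * y⁻¹) * c⁻¹⁻¹ = c⁻¹ * y * x * (c⁻¹ * y)⁻¹
      group
    exact ⟨x, hback g H hx1, hback k K hx2⟩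
  apply noTwo_of_coatom
  intro H K hH hK
  by_cases h1 : Av a H
  · by_cases h2 : Av a K
    · exact ⟨a, h1, h2⟩
    · have h3 := (hab K hK).resolve_left h2
      by_cases h4 : Av b H
      · exact ⟨b, h4, h3⟩
      · obtain ⟨x, hx, hy⟩ := key K H hK hH h2 h4
        exact ⟨x, hy, hx⟩
  · have h3 := (hab H hH).resolve_left h1
    by_cases h4 : Av b K
    · exact ⟨b, h3, h4⟩
    · exact key H K hH hK h1 h4

end Finite

section Transport

variable {G : Type u} [Group G] {G' : Type v} [Group G']

/-- **`NoTwo` passes to quotients**: work in the matrix group (`SU`, `Sp`, `Ω`, `SL`) -/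
theorem NoTwo.of_surjective (h : NoTwo G) (f : G →* G') (hf : Function.Surjective f) : NoTwo G' := by
  intro H K hH hK
  have hne : ∀ L : Subgroup G', L ≠ ⊤ → L.comap f ≠ ⊤ := by
    intro L hL hc
    apply hL
    rw [eq_top_iff]
    intro y _
    obtain ⟨x, rfl⟩ := hf y
    have : x ∈ L.comap f := by rw [hc]; trivial
    exact this
  obtain ⟨x, hx, hy⟩ := h _ _ (hne H hH) (hne K hK)
  refine ⟨f x, fun g hg => ?_, fun g hg => ?_⟩
  · obtain ⟨y, rfl⟩ := hf g
    exact hx y (by change f (y * x * y⁻¹) ∈ H; simpa using hg)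
  · obtain ⟨z, rfl⟩ := hf g
    exact hy z (by change f (z * x * z⁻¹) ∈ K; simpa using hg)

theorem NoTwo.congr (h : NoTwo G) (e : G ≃* G') : NoTwo G' := h.of_surjective e.toMonoidHom e.surjective

/-- `Av` and a homomorphism -/
theorem Av.comap {f : G →* G'} {x : G} {H : Subgroup G'} (h : Av (f x) H) : Av x (H.comap f) := by
  intro g hg
  apply h (f g)
  have : f (g * x * g⁻¹) ∈ H := hg
  simpa using this

end Transport

end Cfsg.Agent.H278.Cov
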